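import Cfsg.Agent.Lib.Helper44.FW.Defs

/-!
# Project FW (S3211), package [TRANS]

Transport of the `SL₂` facts (unique involution, an element of order 4, at most two square
roots) to a subgroup `L ≅ SL₂(F)`, `|F|` odd.
-/

set_option autoImplicit false

namespace Cfsg.Agent.Lib.Helper40.FW

open Cfsg.Agent.Lib.Helper44.FW

universe u v

theorem qA_sq (F : Type u) [Field F] : (qA F) ^ 2 = negOne F := by
  rw [sq]
  apply Subtype.ext
  show (!![0, -1; 1, 0] : Matrix (Fin 2) (Fin 2) F) * !![0, -1; 1, 0] = !![-1, 0; 0, -1]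
  ext i j
  fin_cases i <;> fin_cases j <;> simp [Matrix.mul_apply, Fin.sum_univ_two]

theorem two_ne_zero_of_odd {F : Type u} [Field F] [Fintype F] (h : Odd (Fintype.card F)) :
    (2 : F) ≠ 0 := by
  intro h2
  have hc : ringChar F = 2 :=
    CharP.ringChar_of_prime_eq_zero Nat.prime_two (by exact_mod_cast h2)
  have := FiniteField.even_card_of_char_two hc
  rcases h with ⟨k, hk⟩
  omega

theorem pkgTrans : PkgSL2U.{v} → PkgSL2SQ.{v} → PkgTrans.{u, v} := by
  rintro hU hSQ G _ F _ _ hodd L ⟨e⟩ j hjL hj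
  have h2 : (2 : F) ≠ 0 := two_ne_zero_of_odd hodd
  have hJord : orderOf (⟨j, hjL⟩ : ↥L) = 2 := by
    rw [← Subgroup.orderOf_coe]; exact hj
  have heJord : orderOf (e ⟨j, hjL⟩) = 2 := by rw [MulEquiv.orderOf_eq]; exact hJord
  have heJ : e ⟨j, hjL⟩ = negOne F := by
    have h1 : (e ⟨j, hjL⟩) ^ 2 = 1 := by
      have h := pow_orderOf_eq_one (e ⟨j, hjL⟩)
      rwa [heJord] at h
    have hne : e ⟨j, hjL⟩ ≠ 1 := by
      intro h
      rw [h, orderOf_one] at heJord
      exact absurd heJord (by norm_num)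
    rcases hU F h2 (e ⟨j, hjL⟩) h1 with h | h
    · exact absurd h hne
    · exact h
  refine ⟨?_, ?_, ?_⟩
  · intro x hx hx2
    have h1 : (e ⟨x, hx⟩) ^ 2 = 1 := by
      rw [← map_pow]
      have : (⟨x, hx⟩ : ↥L) ^ 2 = 1 := Subtype.ext hx2
      rw [this, map_one]
    rcases hU F h2 _ h1 with h | h
    · left
      have : (⟨x, hx⟩ : ↥L) = 1 := by
        apply e.injective; rw [h, map_one]
      exact congrArg Subtype.val this
    · right
      have : (⟨x, hx⟩ : ↥L) = ⟨j, hjL⟩ := by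
        apply e.injective; rw [h, heJ]
      exact congrArg Subtype.val this
  · refine ⟨(e.symm (qA F) : G), (e.symm (qA F)).2, ?_⟩
    have : (e.symm (qA F)) ^ 2 = (⟨j, hjL⟩ : ↥L) := by
      apply e.injective
      rw [map_pow, MulEquiv.apply_symm_apply, qA_sq, heJ]
    exact congrArg Subtype.val this
  · intro x hx hxj a ha a' ha' hax ha'x
    have hX : (e ⟨x, hx⟩) ^ 2 = negOne F := by
      rw [← map_pow, ← heJ]
      congr 1
      exact Subtype.ext hxj
    have hA : (e ⟨a, ha⟩) ^ 2 = e ⟨x, hx⟩ := by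
      rw [← map_pow]; congr 1; exact Subtype.ext hax
    have hA' : (e ⟨a', ha'⟩) ^ 2 = e ⟨x, hx⟩ := by
      rw [← map_pow]; congr 1; exact Subtype.ext ha'x
    rcases hSQ F h2 _ _ _ hX hA hA' with h | h
    · left
      have : (⟨a', ha'⟩ : ↥L) = ⟨a, ha⟩ := e.injective h
      exact congrArg Subtype.val this
    · right
      have : (⟨a', ha'⟩ : ↥L) = ⟨a, ha⟩ * ⟨j, hjL⟩ := by
        apply e.injective; rw [h, map_mul, heJ]
      exact congrArg Subtype.val this

end Cfsg.Agent.Lib.Helper40.FW
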